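import Cfsg.Agent.H69.F43.Lag

/-!
# The long root vectors of `V₁₄` (S2464, F₄(3); helper69)

* `O1` : the orbit of `e0`; `mem_O1`, `neg_mem_O1`, `act_mem_O1`, `card_filter_O1`; `card_O1 : O1.card = 2240`;
* `T1` : for `μ ≠ 0` there are between `648` and `810` vectors `w ∈ O1` with `bf μ w = 1`.
-/

set_option autoImplicit false

namespace Cfsg.Agent.H69.F43

open Cfsg.Agent.H700.F43 Cfsg.Agent.H675.F43

theorem Xuu_add {T T' : Matrix (Fin 3) (Fin 3) F3} (hT : T.transpose = T) (hT' : T'.transpose = T') (v : V14) :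
    Xuu (T + T') v = Xuu T (Xuu T' v) := by
  have hs : (T + T').transpose = T + T' := by rw [Matrix.transpose_add, hT, hT']
  have h : uu (T + T') hs = uu T hT * uu T' hT' := by
    refine Subtype.ext ?_
    change Matrix.fromBlocks 1 (T + T') 0 1 = Matrix.fromBlocks 1 T 0 1 * Matrix.fromBlocks 1 T' 0 1
    rw [Matrix.fromBlocks_multiply]
    congr 1 <;> simp [add_comm]
  have h1 := act_uu (T + T') hs
  rw [h, map_mul, act_uu, act_uu] at h1
  exact (LinearMap.congr_fun h1 v).symm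

theorem Xvv_add {T T' : Matrix (Fin 3) (Fin 3) F3} (hT : T.transpose = T) (hT' : T'.transpose = T') (v : V14) :
    Xvv (T + T') v = Xvv T (Xvv T' v) := by
  have hs : (T + T').transpose = T + T' := by rw [Matrix.transpose_add, hT, hT']
  have h : vv (T + T') hs = vv T hT * vv T' hT' := by
    refine Subtype.ext ?_
    change Matrix.fromBlocks 1 0 (T + T') 1 = Matrix.fromBlocks 1 0 T 1 * Matrix.fromBlocks 1 0 T' 1
    rw [Matrix.fromBlocks_multiply]
    congr 1 <;> simp
  have h1 := act_vv (T + T') hs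
  rw [h, map_mul, act_vv, act_vv] at h1
  exact (LinearMap.congr_fun h1 v).symm

theorem Xuu_zero (v : V14) : Xuu 0 v = v := by
  ext k
  fin_cases k <;> simp [Xuu]

theorem Xvv_zero (v : V14) : Xvv 0 v = v := by
  ext k
  fin_cases k <;> simp [Xvv]

/-- the set of the points -/
def PS (v : V14) : Prop := ∃ i < 1120, v = vec (lg i) ∨ v = -vec (lg i)

theorem PS.neg {v : V14} (h : PS v) : PS (-v) := by
  obtain ⟨i, hi, h⟩ := h
  refine ⟨i, hi, ?_⟩
  rcases h with rfl | rfl
  · exact Or.inr rfl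
  · exact Or.inl (neg_neg _)

theorem ps_gn {g i : ℕ} (hg : g < 12) (hi : i < 1120) : PS (vec (gn g (lg i))) := by
  have h := chkc_all hg i hi
  rw [chkc, Bool.and_eq_true, Bool.or_eq_true] at h
  have h1 : col g i < 1120 := Nat.le_of_ble_eq_true h.1
  refine ⟨_, h1, ?_⟩
  rcases h.2 with h2 | h2
  · rw [Nat.eq_of_beq_eq_true h2]
    exact Or.inl rfl
  · rw [Nat.eq_of_beq_eq_true h2, vec_nneg]
    exact Or.inr rfl

theorem ps_uu_el {j : ℕ} (hj : j < 6) {v : V14} (h : PS v) : PS (Xuu (mt (4 ^ j)) v) := by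
  obtain ⟨i, hi, h⟩ := h
  have h1 := ps_gn (g := j) (by omega) hi
  rw [gn, if_pos hj, vec_nuu] at h1
  rcases h with rfl | rfl
  · exact h1
  · rw [map_neg]
    exact h1.neg

theorem ps_vv_el {j : ℕ} (hj : j < 6) {v : V14} (h : PS v) : PS (Xvv (mt (4 ^ j)) v) := by
  obtain ⟨i, hi, h⟩ := h
  have h1 := ps_gn (g := j + 6) (by omega) hi
  rw [gn, if_neg (by omega), Nat.add_sub_cancel, vec_nvv] at h1
  rcases h with rfl | rfl
  · exact h1
  · rw [map_neg]
    exact h1.neg

theorem smul_cases (P : Matrix (Fin 3) (Fin 3) F3 → Prop) {E : Matrix (Fin 3) (Fin 3) F3} (h0 : P 0) (h1 : P E)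
    (h2 : P (E + E)) : ∀ a : F3, P (a • E) := by
  intro a
  have ha : a = 0 ∨ a = 1 ∨ a = 1 + 1 := by
    revert a
    decide
  rcases ha with rfl | rfl | rfl
  · rwa [zero_smul]
  · rwa [one_smul]
  · rwa [add_smul, one_smul]

theorem mt_split {T : Matrix (Fin 3) (Fin 3) F3} (hT : T.transpose = T) :
    T = T 0 0 • mt (4 ^ 0) + T 1 1 • mt (4 ^ 1) + T 2 2 • mt (4 ^ 2) + T 1 2 • mt (4 ^ 3) + T 0 2 • mt (4 ^ 4) +
      T 0 1 • mt (4 ^ 5) := by
  have h01 : T 1 0 = T 0 1 := congrFun (congrFun hT 0) 1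
  have h02 : T 2 0 = T 0 2 := congrFun (congrFun hT 0) 2
  have h12 : T 2 1 = T 1 2 := congrFun (congrFun hT 1) 2
  ext i j
  fin_cases i <;> fin_cases j <;> simp [mt, dg, h01, h02, h12]

/-- closed under sums and the elementary matrices: everything -/
theorem sym_ind (P : Matrix (Fin 3) (Fin 3) F3 → Prop) (h0 : P 0)
    (hadd : ∀ T T', T.transpose = T → T'.transpose = T' → P T → P T' → P (T + T'))
    (hel : ∀ j < 6, P (mt (4 ^ j))) {T : Matrix (Fin 3) (Fin 3) F3} (hT : T.transpose = T) : P T := by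
  have hs : ∀ (a : F3) (j : ℕ), (a • mt (4 ^ j)).transpose = a • mt (4 ^ j) := by
    intro a j
    rw [Matrix.transpose_smul, mt_sym]
  have hm : ∀ j < 6, ∀ a : F3, P (a • mt (4 ^ j)) := fun j hj =>
    smul_cases P h0 (hel j hj) (hadd _ _ (mt_sym _) (mt_sym _) (hel j hj) (hel j hj))
  have ht : ∀ {T T' : Matrix (Fin 3) (Fin 3) F3}, T.transpose = T → T'.transpose = T' → (T + T').transpose = T + T' := by
    intro T T' h h'
    rw [Matrix.transpose_add, h, h']
  rw [mt_split hT]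
  refine hadd _ _ (ht (ht (ht (ht (hs _ _) (hs _ _)) (hs _ _)) (hs _ _)) (hs _ _)) (hs _ _) ?_ (hm 5 (by norm_num) _)
  refine hadd _ _ (ht (ht (ht (hs _ _) (hs _ _)) (hs _ _)) (hs _ _)) (hs _ _) ?_ (hm 4 (by norm_num) _)
  refine hadd _ _ (ht (ht (hs _ _) (hs _ _)) (hs _ _)) (hs _ _) ?_ (hm 3 (by norm_num) _)
  refine hadd _ _ (ht (hs _ _) (hs _ _)) (hs _ _) ?_ (hm 2 (by norm_num) _)
  exact hadd _ _ (hs _ _) (hs _ _) (hm 0 (by norm_num) _) (hm 1 (by norm_num) _)

theorem ps_uu {T : Matrix (Fin 3) (Fin 3) F3} (hT : T.transpose = T) : ∀ {v : V14}, PS v → PS (Xuu T v) := by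
  refine sym_ind (fun T => ∀ {v : V14}, PS v → PS (Xuu T v)) ?_ ?_ ?_ hT
  · intro v h
    rwa [Xuu_zero]
  · intro T T' hT hT' h h' v hv
    rw [Xuu_add hT hT']
    exact h (h' hv)
  · intro j hj v h
    exact ps_uu_el hj h

theorem ps_vv {T : Matrix (Fin 3) (Fin 3) F3} (hT : T.transpose = T) : ∀ {v : V14}, PS v → PS (Xvv T v) := by
  refine sym_ind (fun T => ∀ {v : V14}, PS v → PS (Xvv T v)) ?_ ?_ ?_ hT
  · intro v h
    rwa [Xvv_zero]
  · intro T T' hT hT' h h' v hv
    rw [Xvv_add hT hT']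
    exact h (h' hv)
  · intro j hj v h
    exact ps_vv_el hj h

theorem ps_act (A : Sp) : ∀ {v : V14}, PS v → PS (act A v) := by
  have h : A ∈ Subgroup.closure {A : Sp | (∃ T, ∃ hT : T.transpose = T, A = uu T hT) ∨
      ∃ S, ∃ hS : S.transpose = S, A = vv S hS} := by
    rw [H980.F43.gen_sp]
    trivial
  induction h using Subgroup.closure_induction'' with
  | mem x hx =>
    intro v hv
    rcases hx with ⟨T, hT, rfl⟩ | ⟨T, hT, rfl⟩
    · rw [act_uu]
      exact ps_uu hT hv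
    · rw [act_vv]
      exact ps_vv hT hv
  | inv_mem x hx =>
    intro v hv
    rcases hx with ⟨T, hT, rfl⟩ | ⟨T, hT, rfl⟩
    · rw [H675.F43.uu_inv, act_uu]
      exact ps_uu (by rw [Matrix.transpose_neg, hT]) hv
    · rw [H675.F43.vv_inv, act_vv]
      exact ps_vv (by rw [Matrix.transpose_neg, hT]) hv
  | one =>
    intro v hv
    rw [map_one]
    exact hv
  | mul x y _ _ hx hy =>
    intro v hv
    rw [map_mul]
    exact hx (hy hv)

/-! ### the orbit -/

/-- a long root vector -/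
def e0 : V14 := Pi.single 0 1

theorem vec_one : vec 1 = e0 := by
  ext k
  fin_cases k <;> simp [vec, e0, dg]

theorem Eqv.neg {u v : V14} (h : Eqv u v) : Eqv u (-v) := by
  obtain ⟨A, rfl⟩ := h
  exact ⟨ng * A, by rw [map_mul, act_ng]; rfl⟩

theorem eqv_gn (g u : ℕ) : Eqv (vec u) (vec (gn g u)) := by
  unfold gn
  split_ifs
  · exact eqv_nuu _ _
  · exact eqv_nvv _ _

/-- every point is in the orbit -/
theorem pt_eqv : ∀ i < 1120, Eqv e0 (vec (lg i)) := by
  have key : ∀ d i, i < 1120 → ldi i = d → Eqv e0 (vec (lg i)) := by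
    intro d
    induction d using Nat.strong_induction_on with
    | _ d ih =>
      intro i hi hd
      have h := chkn_all i hi
      rw [chkn, Bool.and_eq_true, Bool.or_eq_true] at h
      rcases h.2 with h1 | h1
      · rw [Nat.eq_of_beq_eq_true h1, lg_zero, vec_one]
        exact Eqv.refl _
      · simp only [Bool.and_eq_true] at h1
        obtain ⟨⟨⟨⟨-, h2⟩, h3⟩, h4⟩, h5⟩ := h1
        have h2 : lpa i < 1120 := Nat.le_of_ble_eq_true h2
        have h3 : lge i < 12 := Nat.le_of_ble_eq_true h3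
        have h4 := Nat.eq_of_beq_eq_true h4
        have h5 : ldi (lpa i) < ldi i := Nat.le_of_ble_eq_true h5
        have h6 := (ih _ (hd ▸ h5) (lpa i) h2 rfl).trans (eqv_gn (lge i) _)
        have h7 := chkc_all h3 (lpa i) h2
        rw [chkc, Bool.and_eq_true, Bool.or_eq_true, h4] at h7
        rcases h7.2 with h8 | h8
        · rwa [Nat.eq_of_beq_eq_true h8] at h6
        · rw [Nat.eq_of_beq_eq_true h8, vec_nneg] at h6
          have h9 := h6.neg
          rwa [neg_neg] at h9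
  exact fun i hi => key _ i hi rfl

open Classical in
/-- the orbit of the long root vectors -/
noncomputable def O1 : Finset V14 := Finset.univ.filter (Eqv e0)

theorem mem_O1' {v : V14} : v ∈ O1 ↔ Eqv e0 v := by
  simp [O1]

theorem mem_O1 {v : V14} : v ∈ O1 ↔ ∃ i < 1120, v = vec (lg i) ∨ v = -vec (lg i) := by
  rw [mem_O1']
  constructor
  · rintro ⟨A, rfl⟩
    refine ps_act A ⟨0, by norm_num, Or.inl ?_⟩
    rw [lg_zero, vec_one]
  · rintro ⟨i, hi, rfl | rfl⟩
    · exact pt_eqv i hi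
    · exact (pt_eqv i hi).neg

theorem act_mem_O1 (A : Sp) {v : V14} : act A v ∈ O1 ↔ v ∈ O1 := by
  rw [mem_O1', mem_O1']
  exact ⟨fun h => h.trans (Eqv.symm ⟨A, rfl⟩), fun h => h.trans ⟨A, rfl⟩⟩

theorem neg_mem_O1 {v : V14} : -v ∈ O1 ↔ v ∈ O1 := by
  rw [mem_O1', mem_O1']
  exact ⟨fun h => by have := h.neg; rwa [neg_neg] at this, fun h => h.neg⟩

/-! ### no repetitions -/

theorem ofl_dl {c c' : ℕ} (h : ∀ k < 14, dg c k % 3 = dg c' k % 3) : ofl (dl c) = ofl (dl c') := by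
  simp only [ofl, dl, h 0 (by norm_num), h 1 (by norm_num), h 2 (by norm_num), h 3 (by norm_num), h 4 (by norm_num),
    h 5 (by norm_num), h 6 (by norm_num), h 7 (by norm_num), h 8 (by norm_num), h 9 (by norm_num), h 10 (by norm_num),
    h 11 (by norm_num), h 12 (by norm_num), h 13 (by norm_num)]

theorem fst3_mod (l : List ℕ) : fst3 l = fst3 (l.map (· % 3)) := by
  induction l with
  | nil => rfl
  | cons a l ih => simp only [fst3, List.map_cons, Nat.mod_mod, ih]

theorem fst3_two (l : List ℕ) : fst3 (l.map (2 * ·)) = 2 * fst3 l % 3 := by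
  induction l with
  | nil => rfl
  | cons a l ih =>
    simp only [fst3, List.map_cons]
    by_cases h : a % 3 = 0
    · rw [if_pos (by omega), if_pos h, ih]
    · rw [if_neg (by omega), if_neg h]
      omega

theorem cast_eq {a b : ℕ} (h : (a : F3) = b) : a % 3 = b % 3 := (ZMod.natCast_eq_natCast_iff' a b 3).1 h

theorem chkn_ofl {i : ℕ} (hi : i < 1120) : ofl (dl (lg i)) = lg i := by
  have h := chkn_all i hi
  simp only [chkn, Bool.and_eq_true] at h
  exact Nat.eq_of_beq_eq_true h.1.1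

theorem chkn_fst {i : ℕ} (hi : i < 1120) : fst3 (dl (lg i)) = 1 := by
  have h := chkn_all i hi
  simp only [chkn, Bool.and_eq_true] at h
  exact Nat.eq_of_beq_eq_true h.1.2

theorem lg_lt {i : ℕ} (hi : i + 1 < 1120) : lg i < lg (i + 1) := by
  have h := chkn_all (i + 1) hi
  rw [chkn, Bool.and_eq_true, Bool.or_eq_true] at h
  rcases h.2 with h1 | h1
  · exact absurd (Nat.eq_of_beq_eq_true h1) (Nat.succ_ne_zero i)
  · simp only [Bool.and_eq_true] at h1
    exact Nat.le_of_ble_eq_true h1.1.1.1.1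

theorem lg_strict {i j : ℕ} (hij : i < j) (hj : j < 1120) : lg i < lg j := by
  induction j with
  | zero => omega
  | succ j ih =>
    rcases Nat.lt_succ_iff_lt_or_eq.1 hij with h | rfl
    · exact (ih h (by omega)).trans (lg_lt hj)
    · exact lg_lt hj

theorem lg_inj {i j : ℕ} (hi : i < 1120) (hj : j < 1120) (h : vec (lg i) = vec (lg j)) : i = j := by
  have h1 : lg i = lg j := by
    rw [← chkn_ofl hi, ← chkn_ofl hj]
    exact ofl_dl fun k hk => cast_eq (congrFun h ⟨k, hk⟩)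
  rcases Nat.lt_trichotomy i j with h2 | h2 | h2
  · exact absurd h1 (lg_strict h2 hj).ne
  · exact h2
  · exact absurd h1 (lg_strict h2 hi).ne'

theorem lg_ne_neg {i j : ℕ} (hi : i < 1120) (hj : j < 1120) : vec (lg i) ≠ -vec (lg j) := by
  intro h
  have h1 : ∀ k < 14, dg (lg i) k % 3 = (2 * dg (lg j) k) % 3 := by
    intro k hk
    have h2 := congrFun h ⟨k, hk⟩
    rw [Pi.neg_apply, neg_eq2] at h2
    refine cast_eq ?_
    rw [Nat.cast_mul]
    exact h2
  have h3 : (dl (lg i)).map (· % 3) = ((dl (lg j)).map (2 * ·)).map (· % 3) := by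
    simp only [dl, List.map_cons, List.map_nil, h1 0 (by norm_num), h1 1 (by norm_num), h1 2 (by norm_num),
      h1 3 (by norm_num), h1 4 (by norm_num), h1 5 (by norm_num), h1 6 (by norm_num), h1 7 (by norm_num),
      h1 8 (by norm_num), h1 9 (by norm_num), h1 10 (by norm_num), h1 11 (by norm_num), h1 12 (by norm_num),
      h1 13 (by norm_num)]
  have h4 := chkn_fst hi
  rw [fst3_mod, h3, ← fst3_mod, fst3_two, chkn_fst hj] at h4
  omega

/-- **Counting in the orbit.** -/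
theorem card_filter_O1 (P : V14 → Prop) [DecidablePred P] : (O1.filter P).card =
    ((Finset.range 1120).filter fun i => P (vec (lg i))).card +
      ((Finset.range 1120).filter fun i => P (-vec (lg i))).card := by
  have h : O1.filter P = (((Finset.range 1120).filter fun i => P (vec (lg i))).image fun i => vec (lg i)) ∪
      (((Finset.range 1120).filter fun i => P (-vec (lg i))).image fun i => -vec (lg i)) := by
    ext v
    simp only [Finset.mem_filter, Finset.mem_union, Finset.mem_image, Finset.mem_range, mem_O1]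
    constructor
    · rintro ⟨⟨i, hi, rfl | rfl⟩, hP⟩
      · exact Or.inl ⟨i, ⟨hi, hP⟩, rfl⟩
      · exact Or.inr ⟨i, ⟨hi, hP⟩, rfl⟩
    · rintro (⟨i, ⟨hi, hP⟩, rfl⟩ | ⟨i, ⟨hi, hP⟩, rfl⟩)
      · exact ⟨⟨i, hi, Or.inl rfl⟩, hP⟩
      · exact ⟨⟨i, hi, Or.inr rfl⟩, hP⟩
  rw [h, Finset.card_union_of_disjoint, Finset.card_image_of_injOn, Finset.card_image_of_injOn]
  · intro i hi j hj hij
    simp only [Finset.coe_filter, Finset.mem_range, Set.mem_ofPred_eq] at hi hj
    exact lg_inj hi.1 hj.1 (neg_injective hij)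
  · intro i hi j hj hij
    simp only [Finset.coe_filter, Finset.mem_range, Set.mem_ofPred_eq] at hi hj
    exact lg_inj hi.1 hj.1 hij
  · rw [Finset.disjoint_left]
    intro v hv hv'
    simp only [Finset.mem_filter, Finset.mem_image, Finset.mem_range] at hv hv'
    obtain ⟨i, ⟨hi, -⟩, rfl⟩ := hv
    obtain ⟨j, ⟨hj, -⟩, hj'⟩ := hv'
    exact lg_ne_neg hi hj hj'.symm

theorem card_O1 : O1.card = 2240 := by
  classical
  have h := card_filter_O1 fun _ => True
  simp only [Finset.filter_true, Finset.card_range] at h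
  exact h

/-! ### the numbers `c(μ)` -/

/-- code of the form -/
def bfc (u v : ℕ) : ℕ := dg u 0 * dg v 13 + 2 * (dg u 13 * dg v 0) +
  2 * (dg u 1 * dg v 7 + dg u 2 * dg v 8 + dg u 3 * dg v 9) + (dg u 7 * dg v 1 + dg u 8 * dg v 2 + dg u 9 * dg v 3) +
  (dg u 4 * dg v 10 + dg u 5 * dg v 11 + dg u 6 * dg v 12) + 2 * (dg u 10 * dg v 4 + dg u 11 * dg v 5 + dg u 12 * dg v 6)

theorem bfc_cast (u v : ℕ) : ((bfc u v : ℕ) : F3) = bf (vec u) (vec v) := by
  simp [bfc, bf, vec]
  grind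

/-- bounded counting -/
def cnt (f : ℕ → Bool) : ℕ → ℕ
  | 0 => 0
  | k + 1 => cnt f k + cond (f k) 1 0

theorem cnt_eq (f : ℕ → Bool) (n : ℕ) : cnt f n = ((Finset.range n).filter fun i => f i = true).card := by
  induction n with
  | zero => rfl
  | succ n ih =>
    rw [cnt, Finset.range_add_one, Finset.filter_insert, ih]
    split_ifs with h
    · rw [Finset.card_insert_of_notMem (by simp), h]
      rfl
    · rw [Bool.not_eq_true] at h
      rw [h]
      rfl

/-- test: the form is nonzero -/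
def pN (r i : ℕ) : Bool := !Nat.beq (bfc (lg i) (nc r) % 3) 0

theorem pN_iff (r i : ℕ) : pN r i = true ↔ bf (vec (nc r)) (vec (lg i)) ≠ 0 := by
  rw [bf_swap, neg_ne_zero, ← bfc_cast, Ne, ← Nat.cast_zero, ZMod.natCast_eq_natCast_iff', pN, Bool.not_eq_true',
    Bool.eq_false_iff, Ne, Nat.beq_eq]

theorem cn_0 : cnt (pN 0) 1120 = 729 := by decide +kernel

theorem cn_1 : cnt (pN 9) 1120 = 648 := by decide +kernel

theorem cn_2 : cnt (pN 18) 1120 = 810 := by decide +kernel

theorem cn_3 : cnt (pN 4) 1120 = 729 := by decide +kernel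

theorem cn_4 : cnt (pN 13) 1120 = 756 := by decide +kernel

theorem cn_5 : cnt (pN 14) 1120 = 756 := by decide +kernel

theorem cn_le {t : ℕ} (ht : t ≤ 5) : 648 ≤ cnt (pN (rp t)) 1120 ∧ cnt (pN (rp t)) 1120 ≤ 810 := by
  interval_cases t
  · change 648 ≤ cnt (pN 0) 1120 ∧ cnt (pN 0) 1120 ≤ 810
    rw [cn_0]
    norm_num
  · change 648 ≤ cnt (pN 9) 1120 ∧ cnt (pN 9) 1120 ≤ 810
    rw [cn_1]
    norm_num
  · change 648 ≤ cnt (pN 18) 1120 ∧ cnt (pN 18) 1120 ≤ 810
    rw [cn_2]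
    norm_num
  · change 648 ≤ cnt (pN 4) 1120 ∧ cnt (pN 4) 1120 ≤ 810
    rw [cn_3]
    norm_num
  · change 648 ≤ cnt (pN 13) 1120 ∧ cnt (pN 13) 1120 ≤ 810
    rw [cn_4]
    norm_num
  · change 648 ≤ cnt (pN 14) 1120 ∧ cnt (pN 14) 1120 ≤ 810
    rw [cn_5]
    norm_num

theorem f3_cases : ∀ a : F3, (a ≠ 0 ↔ a = 1 ∨ -a = 1) ∧ ¬(a = 1 ∧ -a = 1) := by decide

theorem card_one (r : ℕ) : (O1.filter fun w => bf (vec (nc r)) w = 1).card = cnt (pN r) 1120 := by
  rw [card_filter_O1, cnt_eq, ← Finset.card_union_of_disjoint]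
  · refine congrArg Finset.card (Finset.ext fun i => ?_)
    simp only [Finset.mem_union, Finset.mem_filter, Finset.mem_range, pN_iff, bf_neg_right, (f3_cases _).1]
    tauto
  · rw [Finset.disjoint_left]
    intro i hi hi'
    simp only [Finset.mem_filter, Finset.mem_range, bf_neg_right] at hi hi'
    exact (f3_cases _).2 ⟨hi.2, hi'.2⟩

/-- `c(μ)` is an invariant. -/
theorem card_one_congr {μ ν : V14} (h : Eqv μ ν) :
    (O1.filter fun w => bf μ w = 1).card = (O1.filter fun w => bf ν w = 1).card := by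
  obtain ⟨A, rfl⟩ := h
  refine Finset.card_bij (fun w _ => act A w) ?_ ?_ ?_
  · intro w hw
    rw [Finset.mem_filter] at hw ⊢
    exact ⟨(act_mem_O1 A).2 hw.1, by rw [bf_act]; exact hw.2⟩
  · intro w _ w' _ h
    have h1 := congrArg (act A⁻¹) h
    have h2 : ∀ x : V14, act A⁻¹ (act A x) = x := fun x => LinearMap.congr_fun (act_inv_mul A) x
    rwa [h2, h2] at h1
  · intro w hw
    rw [Finset.mem_filter] at hw
    have h2 : act A (act A⁻¹ w) = w := LinearMap.congr_fun (act_mul_inv A) w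
    refine ⟨act A⁻¹ w, ?_, h2⟩
    rw [Finset.mem_filter]
    refine ⟨(act_mem_O1 _).2 hw.1, ?_⟩
    rw [← bf_act A, h2]
    exact hw.2

theorem exists_rep' {μ : V14} (h : μ ≠ 0) : ∃ t ≤ 5, Eqv μ (vec (nc (rp t))) := by
  obtain ⟨n, hn, h1⟩ := exists_rep h
  exact ⟨typ n, typ_le hn, h1.trans (node_eqv n hn)⟩

/-- **(T1)** -/
theorem T1 {μ : V14} (h : μ ≠ 0) : 648 ≤ (O1.filter fun w => bf μ w = 1).card ∧
    (O1.filter fun w => bf μ w = 1).card ≤ 810 := by
  obtain ⟨t, ht, h1⟩ := exists_rep' h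
  rw [card_one_congr h1, card_one]
  exact cn_le ht

end Cfsg.Agent.H69.F43
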