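import Cfsg.Agent.H675.F43.Rel

/-!
# `V₁₄` in the kernel (S2464, F₄(3); helper69)

Vectors and functionals of `V₁₄` are coded by natural numbers (digits in base `4`).

* `vec c` : the vector with code `c`; `nuu T c`, `nvv T c` : codes of `Xuu T (vec c)`, `Xvv T (vec c)`;
* `fnl c` : the functional with code `c`; `ruu T c`, `rvv T c` : codes of the pull backs.
-/

set_option autoImplicit false

namespace Cfsg.Agent.H69.F43

open Cfsg.Agent.H700.F43 Cfsg.Agent.H675.F43

/-- digits in base four -/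
def dg (c i : ℕ) : ℕ := c / 4 ^ i % 4

/-- Horner -/
def ofl : List ℕ → ℕ
  | [] => 0
  | a :: l => a % 3 + 4 * ofl l

theorem dg_zero (a x : ℕ) : dg (a % 3 + 4 * x) 0 = a % 3 := by
  unfold dg
  rw [pow_zero, Nat.div_one]
  omega

theorem dg_succ (a x i : ℕ) : dg (a % 3 + 4 * x) (i + 1) = dg x i := by
  unfold dg
  have h : (a % 3 + 4 * x) / 4 ^ (i + 1) = x / 4 ^ i := by
    rw [pow_succ, Nat.mul_comm (4 ^ i) 4, ← Nat.div_div_eq_div_mul]
    congr 1
    omega
  rw [h]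

theorem dg_ofl (l : List ℕ) (i : ℕ) : dg (ofl l) i = (l.getD i 0) % 3 := by
  induction l generalizing i with
  | nil => simp [ofl, dg]
  | cons a l ih =>
    cases i with
    | zero => exact dg_zero a _
    | succ i =>
      rw [ofl, dg_succ, ih]
      rfl

/-- the vector with code `c` -/
def vec (c : ℕ) : V14 := fun i => (dg c i : F3)

/-- the symmetric matrix with code `t` -/
def mt (t : ℕ) : Matrix (Fin 3) (Fin 3) F3 :=
  !![(dg t 0 : F3), (dg t 5 : F3), (dg t 4 : F3); (dg t 5 : F3), (dg t 1 : F3), (dg t 3 : F3);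
    (dg t 4 : F3), (dg t 3 : F3), (dg t 2 : F3)]

theorem mt_sym (t : ℕ) : (mt t).transpose = mt t := by
  ext i j
  fin_cases i <;> fin_cases j <;> rfl

theorem cast_mod (n : ℕ) : ((n % 3 : ℕ) : F3) = n := ZMod.natCast_mod n 3

/-- code of `Xuu (mt t) (vec v)` -/
def nuu (t v : ℕ) : ℕ :=
  let a := dg t 0; let b := dg t 1; let c := dg t 2; let d := dg t 3; let e := dg t 4; let f := dg t 5
  let v0 := dg v 0; let v1 := dg v 1; let v2 := dg v 2; let v3 := dg v 3; let v4 := dg v 4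
  let v5 := dg v 5; let v6 := dg v 6; let v7 := dg v 7; let v8 := dg v 8; let v9 := dg v 9
  let v10 := dg v 10; let v11 := dg v 11; let v12 := dg v 12; let v13 := dg v 13
  ofl [v0, a * v0 + v1, b * v0 + v2, c * v0 + v3, d * v0 + v4, e * v0 + v5, f * v0 + v6,
    (b * c + 2 * (d * d)) * v0 + c * v2 + b * v3 + d * v4 + v7,
    (a * c + 2 * (e * e)) * v0 + c * v1 + a * v3 + e * v5 + v8,
    (a * b + 2 * (f * f)) * v0 + b * v1 + a * v2 + f * v6 + v9,
    (2 * (a * d) + f * e) * v0 + 2 * (d * v1) + 2 * (a * v4) + f * v5 + e * v6 + v10,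
    (f * d + 2 * (e * b)) * v0 + 2 * (e * v2) + f * v4 + 2 * (b * v5) + d * v6 + v11,
    (2 * (f * c) + e * d) * v0 + 2 * (f * v3) + e * v4 + d * v5 + 2 * (c * v6) + v12,
    (a * b * c + 2 * (a * d * d) + 2 * (f * f * c) + 2 * (f * e * d) + 2 * (e * e * b)) * v0 +
      (b * c + 2 * (d * d)) * v1 + (a * c + 2 * (e * e)) * v2 + (a * b + 2 * (f * f)) * v3 +
      (a * d + 2 * (f * e)) * v4 + (2 * (f * d) + e * b) * v5 + (f * c + 2 * (e * d)) * v6 +
      a * v7 + b * v8 + c * v9 + 2 * (d * v10) + 2 * (e * v11) + 2 * (f * v12) + v13]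

/-- code of `Xvv (mt t) (vec v)` -/
def nvv (t v : ℕ) : ℕ :=
  let a := dg t 0; let b := dg t 1; let c := dg t 2; let d := dg t 3; let e := dg t 4; let f := dg t 5
  let v0 := dg v 0; let v1 := dg v 1; let v2 := dg v 2; let v3 := dg v 3; let v4 := dg v 4
  let v5 := dg v 5; let v6 := dg v 6; let v7 := dg v 7; let v8 := dg v 8; let v9 := dg v 9
  let v10 := dg v 10; let v11 := dg v 11; let v12 := dg v 12; let v13 := dg v 13
  ofl [v0 + a * v1 + b * v2 + c * v3 + 2 * (d * v4) + 2 * (e * v5) + 2 * (f * v6) +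
      (b * c + 2 * (d * d)) * v7 + (a * c + 2 * (e * e)) * v8 + (a * b + 2 * (f * f)) * v9 +
      (a * d + 2 * (f * e)) * v10 + (2 * (f * d) + e * b) * v11 + (f * c + 2 * (e * d)) * v12 +
      (a * b * c + 2 * (a * d * d) + 2 * (f * f * c) + 2 * (f * e * d) + 2 * (e * e * b)) * v13,
    v1 + c * v8 + b * v9 + d * v10 + (b * c + 2 * (d * d)) * v13,
    v2 + c * v7 + a * v9 + e * v11 + (a * c + 2 * (e * e)) * v13,
    v3 + b * v7 + a * v8 + f * v12 + (a * b + 2 * (f * f)) * v13,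
    v4 + 2 * (d * v7) + 2 * (a * v10) + f * v11 + e * v12 + (2 * (a * d) + f * e) * v13,
    v5 + 2 * (e * v8) + f * v10 + 2 * (b * v11) + d * v12 + (f * d + 2 * (e * b)) * v13,
    v6 + 2 * (f * v9) + e * v10 + d * v11 + 2 * (c * v12) + (2 * (f * c) + e * d) * v13,
    v7 + a * v13, v8 + b * v13, v9 + c * v13, v10 + d * v13, v11 + e * v13, v12 + f * v13, v13]

/-- the functional with code `r` -/
def fnl (r : ℕ) (v : V14) : F3 := ∑ i : Fin 14, (dg r i : F3) * v i

/-- code of `fnl r ∘ Xuu (mt t)` -/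
def ruu (t r : ℕ) : ℕ :=
  let a := dg t 0; let b := dg t 1; let c := dg t 2; let d := dg t 3; let e := dg t 4; let f := dg t 5
  let r0 := dg r 0; let r1 := dg r 1; let r2 := dg r 2; let r3 := dg r 3; let r4 := dg r 4
  let r5 := dg r 5; let r6 := dg r 6; let r7 := dg r 7; let r8 := dg r 8; let r9 := dg r 9
  let r10 := dg r 10; let r11 := dg r 11; let r12 := dg r 12; let r13 := dg r 13
  ofl [r0 + a * r1 + b * r2 + c * r3 + d * r4 + e * r5 + f * r6 +
      (b * c + 2 * (d * d)) * r7 + (a * c + 2 * (e * e)) * r8 + (a * b + 2 * (f * f)) * r9 +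
      (2 * (a * d) + f * e) * r10 + (f * d + 2 * (e * b)) * r11 + (2 * (f * c) + e * d) * r12 +
      (a * b * c + 2 * (a * d * d) + 2 * (f * f * c) + 2 * (f * e * d) + 2 * (e * e * b)) * r13,
    r1 + c * r8 + b * r9 + 2 * (d * r10) + (b * c + 2 * (d * d)) * r13,
    r2 + c * r7 + a * r9 + 2 * (e * r11) + (a * c + 2 * (e * e)) * r13,
    r3 + b * r7 + a * r8 + 2 * (f * r12) + (a * b + 2 * (f * f)) * r13,
    r4 + d * r7 + 2 * (a * r10) + f * r11 + e * r12 + (a * d + 2 * (f * e)) * r13,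
    r5 + e * r8 + f * r10 + 2 * (b * r11) + d * r12 + (2 * (f * d) + e * b) * r13,
    r6 + f * r9 + e * r10 + d * r11 + 2 * (c * r12) + (f * c + 2 * (e * d)) * r13,
    r7 + a * r13, r8 + b * r13, r9 + c * r13, r10 + 2 * (d * r13), r11 + 2 * (e * r13), r12 + 2 * (f * r13), r13]

/-- code of `fnl r ∘ Xvv (mt t)` -/
def rvv (t r : ℕ) : ℕ :=
  let a := dg t 0; let b := dg t 1; let c := dg t 2; let d := dg t 3; let e := dg t 4; let f := dg t 5
  let r0 := dg r 0; let r1 := dg r 1; let r2 := dg r 2; let r3 := dg r 3; let r4 := dg r 4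
  let r5 := dg r 5; let r6 := dg r 6; let r7 := dg r 7; let r8 := dg r 8; let r9 := dg r 9
  let r10 := dg r 10; let r11 := dg r 11; let r12 := dg r 12; let r13 := dg r 13
  ofl [r0, a * r0 + r1, b * r0 + r2, c * r0 + r3, 2 * (d * r0) + r4, 2 * (e * r0) + r5, 2 * (f * r0) + r6,
    (b * c + 2 * (d * d)) * r0 + c * r2 + b * r3 + 2 * (d * r4) + r7,
    (a * c + 2 * (e * e)) * r0 + c * r1 + a * r3 + 2 * (e * r5) + r8,
    (a * b + 2 * (f * f)) * r0 + b * r1 + a * r2 + 2 * (f * r6) + r9,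
    (a * d + 2 * (f * e)) * r0 + d * r1 + 2 * (a * r4) + f * r5 + e * r6 + r10,
    (2 * (f * d) + e * b) * r0 + e * r2 + f * r4 + 2 * (b * r5) + d * r6 + r11,
    (f * c + 2 * (e * d)) * r0 + f * r3 + e * r4 + d * r5 + 2 * (c * r6) + r12,
    (a * b * c + 2 * (a * d * d) + 2 * (f * f * c) + 2 * (f * e * d) + 2 * (e * e * b)) * r0 +
      (b * c + 2 * (d * d)) * r1 + (a * c + 2 * (e * e)) * r2 + (a * b + 2 * (f * f)) * r3 +
      (2 * (a * d) + f * e) * r4 + (f * d + 2 * (e * b)) * r5 + (2 * (f * c) + e * d) * r6 +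
      a * r7 + b * r8 + c * r9 + d * r10 + e * r11 + f * r12 + r13]

theorem three : (3 : F3) = 0 := by decide

theorem vec_ofl (l : List ℕ) (i : Fin 14) : vec (ofl l) i = ((l.getD i 0 : ℕ) : F3) := by
  unfold vec
  rw [dg_ofl, cast_mod]

end Cfsg.Agent.H69.F43
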