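import Cfsg.Agent.H69.F43.Cls

/-!
# The invariant alternating form on `V₁₄` (S2464, F₄(3); helper69)

* `bf u v` : the form; `bf_add_left`, …; `bfl` : the bilinear map;
* `bf_act` : it is invariant; `bf_nondeg`; `exists_bf` : every functional is `bf μ`.
-/

set_option autoImplicit false

namespace Cfsg.Agent.H69.F43

open Cfsg.Agent.H700.F43 Cfsg.Agent.H675.F43

/-- the alternating form -/
def bf (u v : V14) : F3 := u 0 * v 13 - u 13 * v 0 - u 1 * v 7 - u 2 * v 8 - u 3 * v 9 + u 7 * v 1 + u 8 * v 2 + u 9 * v 3 +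
  u 4 * v 10 + u 5 * v 11 + u 6 * v 12 - u 10 * v 4 - u 11 * v 5 - u 12 * v 6

theorem bf_add_left (u u' v : V14) : bf (u + u') v = bf u v + bf u' v := by
  simp only [bf, Pi.add_apply]
  ring

theorem bf_add_right (u v v' : V14) : bf u (v + v') = bf u v + bf u v' := by
  simp only [bf, Pi.add_apply]
  ring

theorem bf_smul_left (a : F3) (u v : V14) : bf (a • u) v = a * bf u v := by
  simp only [bf, Pi.smul_apply, smul_eq_mul]
  ring

theorem bf_smul_right (a : F3) (u v : V14) : bf u (a • v) = a * bf u v := by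
  simp only [bf, Pi.smul_apply, smul_eq_mul]
  ring

theorem bf_neg_left (u v : V14) : bf (-u) v = -bf u v := by
  simp only [bf, Pi.neg_apply]
  ring

theorem bf_neg_right (u v : V14) : bf u (-v) = -bf u v := by
  simp only [bf, Pi.neg_apply]
  ring

theorem bf_swap (u v : V14) : bf v u = -bf u v := by
  simp only [bf]
  ring

theorem bf_self (u : V14) : bf u u = 0 := by
  simp only [bf]
  ring

theorem bf_zero_left (v : V14) : bf 0 v = 0 := by
  simp only [bf, Pi.zero_apply]
  ring

theorem bf_zero_right (u : V14) : bf u 0 = 0 := by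
  simp only [bf, Pi.zero_apply]
  ring

/-- the form as a bilinear map -/
def bfl : V14 →ₗ[F3] V14 →ₗ[F3] F3 := LinearMap.mk₂ F3 bf bf_add_left bf_smul_left bf_add_right bf_smul_right

theorem bfl_apply (u v : V14) : bfl u v = bf u v := rfl

set_option maxHeartbeats 4000000 in
theorem bf_uu {T : Matrix (Fin 3) (Fin 3) F3} (u v : V14) : bf (Xuu T u) (Xuu T v) = bf u v := by
  simp [bf, Xuu, -mul_eq_mul_right_iff, -mul_eq_mul_left_iff, -add_left_inj, -add_right_inj]
  grind

set_option maxHeartbeats 4000000 in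
theorem bf_vv {T : Matrix (Fin 3) (Fin 3) F3} (u v : V14) : bf (Xvv T u) (Xvv T v) = bf u v := by
  simp [bf, Xvv, -mul_eq_mul_right_iff, -mul_eq_mul_left_iff, -add_left_inj, -add_right_inj]
  grind

/-- **The form is invariant.** -/
theorem bf_act (A : Sp) (u v : V14) : bf (act A u) (act A v) = bf u v := by
  have h : A ∈ Subgroup.closure {A : Sp | (∃ T, ∃ hT : T.transpose = T, A = uu T hT) ∨
      ∃ S, ∃ hS : S.transpose = S, A = vv S hS} := by
    rw [H980.F43.gen_sp]
    trivial
  induction h using Subgroup.closure_induction'' generalizing u v with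
  | mem x hx =>
    rcases hx with ⟨T, hT, rfl⟩ | ⟨T, hT, rfl⟩
    · rw [act_uu, bf_uu]
    · rw [act_vv, bf_vv]
  | inv_mem x hx =>
    rcases hx with ⟨T, hT, rfl⟩ | ⟨T, hT, rfl⟩
    · rw [H675.F43.uu_inv, act_uu, bf_uu]
    · rw [H675.F43.vv_inv, act_vv, bf_vv]
  | one => rw [map_one]; rfl
  | mul x y _ _ hx hy =>
    rw [map_mul]
    exact (hx _ _).trans (hy _ _)

theorem bf_nondeg {v : V14} (h : ∀ u, bf v u = 0) : v = 0 := by
  have hs := fun k : Fin 14 => h (Pi.single k 1)
  ext k
  have h0 := hs 0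
  have h1 := hs 1
  have h2 := hs 2
  have h3 := hs 3
  have h4 := hs 4
  have h5 := hs 5
  have h6 := hs 6
  have h7 := hs 7
  have h8 := hs 8
  have h9 := hs 9
  have h10 := hs 10
  have h11 := hs 11
  have h12 := hs 12
  have h13 := hs 13
  simp [bf, Pi.single_apply, Fin.ext_iff] at h0 h1 h2 h3 h4 h5 h6 h7 h8 h9 h10 h11 h12 h13
  fin_cases k <;> simp <;> assumption

/-- **Every functional comes from the form.** -/
theorem exists_bf (φ : V14 →ₗ[F3] F3) : ∃ μ, ∀ u, φ u = bf μ u := by
  have hinj : Function.Injective bfl := by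
    rw [← LinearMap.ker_eq_bot, LinearMap.ker_eq_bot']
    intro v hv
    exact bf_nondeg fun u => LinearMap.congr_fun hv u
  have hfin : Module.finrank F3 V14 = Module.finrank F3 (V14 →ₗ[F3] F3) := by
    rw [Module.finrank_linearMap, Module.finrank_self, mul_one]
  have hsurj : Function.Surjective bfl := (LinearMap.injective_iff_surjective_of_finrank_eq_finrank hfin).1 hinj
  obtain ⟨μ, hμ⟩ := hsurj φ
  exact ⟨μ, fun u => (LinearMap.congr_fun hμ u).symm⟩

end Cfsg.Agent.H69.F43
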