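import Cfsg.Agent.H69.F43.Tab

/-!
# Classification of the nonzero vectors of `V₁₄` (S2464, F₄(3); helper69)

* `Eqv u v` : `v = act A u` for some `A : Sp`;
* `node_eqv` : every node is equivalent to the representative of its type;
* `exists_node` : every vector with first coordinate `≠ 0` is equivalent to a node.
-/

set_option autoImplicit false

namespace Cfsg.Agent.H69.F43

open Cfsg.Agent.H700.F43 Cfsg.Agent.H675.F43

/-- equivalence under `Sp₆(3)` -/
def Eqv (u v : V14) : Prop := ∃ A : Sp, v = act A u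

theorem Eqv.refl (u : V14) : Eqv u u := ⟨1, by rw [map_one]; rfl⟩

theorem Eqv.trans {u v w : V14} (h : Eqv u v) (h' : Eqv v w) : Eqv u w := by
  obtain ⟨A, rfl⟩ := h
  obtain ⟨B, rfl⟩ := h'
  exact ⟨B * A, by rw [map_mul]; rfl⟩

theorem Eqv.symm {u v : V14} (h : Eqv u v) : Eqv v u := by
  obtain ⟨A, rfl⟩ := h
  refine ⟨A⁻¹, ?_⟩
  have h1 := LinearMap.congr_fun (act_inv_mul A) u
  exact h1.symm

theorem eqv_nuu (t u : ℕ) : Eqv (vec u) (vec (nuu t u)) :=
  ⟨uu (mt t) (mt_sym t), by rw [act_uu, vec_nuu]⟩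

theorem eqv_nvv (t u : ℕ) : Eqv (vec u) (vec (nvv t u)) :=
  ⟨vv (mt t) (mt_sym t), by rw [act_vv, vec_nvv]⟩

theorem vec_nneg (u : ℕ) : vec (nneg u) = -vec u := by
  ext k
  rw [nneg, vec_ofl, Pi.neg_apply, neg_eq2]
  fin_cases k <;> simp [vec]

theorem eqv_nneg (u : ℕ) : Eqv (vec u) (vec (nneg u)) :=
  ⟨ng, by rw [act_ng, vec_nneg]; rfl⟩

theorem eqv_nrm (u : ℕ) : Eqv (vec u) (vec (nrm u)) := by
  unfold nrm nrm1
  split_ifs with h
  · exact eqv_nuu _ _
  · exact (eqv_nneg u).trans (eqv_nuu _ _)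

theorem eqv_stp (n : ℕ) : Eqv (vec (nc n)) (vec (stp n)) :=
  ((eqv_nvv _ _).trans (eqv_nuu _ _)).trans (eqv_nvv _ _)

theorem dg_lt (c i : ℕ) : dg c i < 4 := Nat.mod_lt _ (by norm_num)

theorem dg_ofl_lt (l : List ℕ) (i : ℕ) : dg (ofl l) i < 3 := by
  rw [dg_ofl]
  exact Nat.mod_lt _ (by norm_num)

theorem idx_nrm_lt (u : ℕ) : idx (nrm u) < 2187 := by
  have h : ∀ i, dg (nrm u) i < 3 := by
    intro i
    unfold nrm nrm1
    split_ifs
    · exact dg_ofl_lt _ _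
    · exact dg_ofl_lt _ _
  have h7 := h 7
  have h8 := h 8
  have h9 := h 9
  have h10 := h 10
  have h11 := h 11
  have h12 := h 12
  have h13 := h 13
  unfold idx
  omega

theorem typ_le {n : ℕ} (hn : n < 2187) : typ n ≤ 5 := by
  have h := chk_all n hn
  rw [chk, Bool.and_eq_true] at h
  exact Nat.le_of_ble_eq_true h.1

/-- **Every node is equivalent to the representative of its type.** -/
theorem node_eqv : ∀ n < 2187, Eqv (vec (nc n)) (vec (nc (rp (typ n)))) := by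
  have key : ∀ d n, n < 2187 → dst n = d → Eqv (vec (nc n)) (vec (nc (rp (typ n)))) := by
    intro d
    induction d using Nat.strong_induction_on with
    | _ d ih =>
      intro n hn hd
      have h := chk_all n hn
      rw [chk, Bool.and_eq_true, Bool.or_eq_true] at h
      rcases h.2 with h1 | h1
      · rw [← Nat.eq_of_beq_eq_true h1]
        exact Eqv.refl _
      · simp only [Bool.and_eq_true] at h1
        obtain ⟨⟨⟨-, h2⟩, h3⟩, h4⟩ := h1
        have h2 := Nat.eq_of_beq_eq_true h2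
        have h3 := Nat.eq_of_beq_eq_true h3
        have h4 : dst (idx (nrm (stp n))) < dst n := Nat.le_of_ble_eq_true h4
        have h5 := ih _ (hd ▸ h4) (idx (nrm (stp n))) (idx_nrm_lt _) rfl
        rw [h2, h3] at h5
        exact ((eqv_stp n).trans (eqv_nrm _)).trans h5
  exact fun n hn => key _ n hn rfl

/-! ### codes of vectors -/

/-- code of a vector -/
def cd (μ : V14) : ℕ := ofl [(μ 0).val, (μ 1).val, (μ 2).val, (μ 3).val, (μ 4).val, (μ 5).val, (μ 6).val, (μ 7).val,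
  (μ 8).val, (μ 9).val, (μ 10).val, (μ 11).val, (μ 12).val, (μ 13).val]

theorem vec_cd (μ : V14) : vec (cd μ) = μ := by
  ext k
  rw [cd, vec_ofl]
  fin_cases k <;> simp

theorem dg_cd_zero (μ : V14) : dg (cd μ) 0 = (μ 0).val := by
  have h : (μ 0).val % 3 = (μ 0).val := Nat.mod_eq_of_lt (ZMod.val_lt (μ 0))
  rw [cd, dg_ofl]
  exact h

theorem dg_nrm1 {u : ℕ} (h : dg u 0 = 1) : dg (nrm1 u) 0 = 1 ∧ dg (nrm1 u) 1 = 0 ∧ dg (nrm1 u) 2 = 0 ∧
    dg (nrm1 u) 3 = 0 ∧ dg (nrm1 u) 4 = 0 ∧ dg (nrm1 u) 5 = 0 ∧ dg (nrm1 u) 6 = 0 := by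
  unfold nrm1 nuu
  simp only [dg_ofl, h, List.getD_cons_zero, List.getD_cons_succ, mul_one]
  refine ⟨trivial, ?_, ?_, ?_, ?_, ?_, ?_⟩ <;> omega

theorem dg_nrm_lt (u i : ℕ) : dg (nrm u) i < 3 := by
  unfold nrm nrm1
  split_ifs
  · exact dg_ofl_lt _ _
  · exact dg_ofl_lt _ _

theorem vec_nrm {u : ℕ} (h : dg u 0 = 1 ∨ dg u 0 = 2) : vec (nrm u) = vec (nc (idx (nrm u))) := by
  have hx : dg (nrm u) 0 = 1 ∧ dg (nrm u) 1 = 0 ∧ dg (nrm u) 2 = 0 ∧ dg (nrm u) 3 = 0 ∧ dg (nrm u) 4 = 0 ∧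
      dg (nrm u) 5 = 0 ∧ dg (nrm u) 6 = 0 := by
    unfold nrm
    split_ifs with h1
    · exact dg_nrm1 h1
    · have h2 : dg u 0 = 2 := h.resolve_left h1
      refine dg_nrm1 ?_
      unfold nneg
      rw [dg_ofl, List.getD_cons_zero, h2]
  have hl := dg_nrm_lt u
  generalize nrm u = x at hx hl ⊢
  obtain ⟨h0, h1, h2, h3, h4, h5, h6⟩ := hx
  have h7 := hl 7
  have h8 := hl 8
  have h9 := hl 9
  have h10 := hl 10
  have h11 := hl 11
  have h12 := hl 12
  have h13 := hl 13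
  have key : ∀ k < 14, dg (nc (idx x)) k = dg x k := by
    intro k hk
    unfold nc idx
    rw [dg_ofl]
    interval_cases k
    all_goals
      simp only [List.getD_cons_zero, List.getD_cons_succ]
      omega
  ext k
  unfold vec
  rw [key k k.2]

/-- **A vector with first coordinate `≠ 0` is equivalent to a node.** -/
theorem exists_node {μ : V14} (h : μ 0 ≠ 0) : ∃ n < 2187, Eqv μ (vec (nc n)) := by
  refine ⟨idx (nrm (cd μ)), idx_nrm_lt _, ?_⟩
  have h1 : dg (cd μ) 0 = 1 ∨ dg (cd μ) 0 = 2 := by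
    rw [dg_cd_zero]
    have h2 : (μ 0).val < 3 := ZMod.val_lt (μ 0)
    have h3 : (μ 0).val ≠ 0 := by
      rw [Ne, ZMod.val_eq_zero]
      exact h
    omega
  have h2 := eqv_nrm (cd μ)
  rw [vec_cd, vec_nrm h1] at h2
  exact h2

theorem zero_of_first {μ : V14} (h : ∀ A : Sp, act A μ 0 = 0) : μ = 0 := by
  have h' : ∀ t : ℕ, Xvv (mt t) μ 0 = 0 := by
    intro t
    have h1 := h (vv (mt t) (mt_sym t))
    rwa [act_vv] at h1
  have e0 := h' 0
  have e1 := h' 1
  have e2 := h' 4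
  have e3 := h' 16
  have e4 := h' 64
  have e5 := h' 256
  have e6 := h' 1024
  have e7 := h' 20
  have e8 := h' 17
  have e9 := h' 5
  have e10 := h' 65
  have e11 := h' 260
  have e12 := h' 1040
  have e13 := h' 21
  simp [Xvv, mt, dg] at e0 e1 e2 e3 e4 e5 e6 e7 e8 e9 e10 e11 e12 e13
  ext k
  fin_cases k <;> simp <;> grind

/-- **Classification.** -/
theorem exists_rep {μ : V14} (h : μ ≠ 0) : ∃ n < 2187, Eqv μ (vec (nc n)) := by
  by_contra hne
  push Not at hne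
  refine h (zero_of_first fun A => ?_)
  by_contra hA
  obtain ⟨n, hn, hn'⟩ := exists_node hA
  exact hne n hn (Eqv.trans ⟨A, rfl⟩ hn')

end Cfsg.Agent.H69.F43
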