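import Cfsg.Agent.H69.F43.Num

/-!
# The codes and the action (S2464, F₄(3); helper69)
-/

set_option autoImplicit false

namespace Cfsg.Agent.H69.F43

open Cfsg.Agent.H700.F43 Cfsg.Agent.H675.F43

theorem neg_eq2 : ∀ x : F3, -x = 2 * x := by decide

theorem sub_eq2 : ∀ x y : F3, x - y = x + 2 * y := by decide

theorem four_eq : (4 : F3) = 1 := by decide

set_option maxHeartbeats 4000000 in
theorem vec_nuu (t v : ℕ) : vec (nuu t v) = Xuu (mt t) (vec v) := by
  ext k
  rw [nuu, vec_ofl]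
  fin_cases k <;>
  · simp [Xuu, mt, vec, -mul_eq_mul_right_iff, -mul_eq_mul_left_iff, -add_left_inj, -add_right_inj]
    try grind

set_option maxHeartbeats 4000000 in
theorem vec_nvv (t v : ℕ) : vec (nvv t v) = Xvv (mt t) (vec v) := by
  ext k
  rw [nvv, vec_ofl]
  fin_cases k <;>
  · simp [Xvv, mt, vec, -mul_eq_mul_right_iff, -mul_eq_mul_left_iff, -add_left_inj, -add_right_inj]
    try grind

set_option maxHeartbeats 4000000 in
theorem fnl_ruu (t r : ℕ) (v : V14) : fnl (ruu t r) v = fnl r (Xuu (mt t) v) := by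
  unfold fnl
  have h : ∀ i : Fin 14, ((dg (ruu t r) i : ℕ) : F3) = vec (ruu t r) i := fun i => rfl
  simp only [h]
  simp only [ruu, vec_ofl, Fin.sum_univ_succ, Fin.sum_univ_zero]
  simp [Xuu, mt, -mul_eq_mul_right_iff, -mul_eq_mul_left_iff, -add_left_inj, -add_right_inj]
  grind

set_option maxHeartbeats 4000000 in
theorem fnl_rvv (t r : ℕ) (v : V14) : fnl (rvv t r) v = fnl r (Xvv (mt t) v) := by
  unfold fnl
  have h : ∀ i : Fin 14, ((dg (rvv t r) i : ℕ) : F3) = vec (rvv t r) i := fun i => rfl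
  simp only [h]
  simp only [rvv, vec_ofl, Fin.sum_univ_succ, Fin.sum_univ_zero]
  simp [Xvv, mt, -mul_eq_mul_right_iff, -mul_eq_mul_left_iff, -add_left_inj, -add_right_inj]
  grind

end Cfsg.Agent.H69.F43
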