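import Cfsg.Agent.H69.F43.One

/-!
# Sizes of the orbits on `V₁₄` (S2464, F₄(3); helper69)

* `h0` : an orbit of nonzero vectors different from `O1` has at least `18954` elements;
* `tau_card` : the commutator space of the transvection `uu (mt 1)` contains `80` long root vectors; `fix_tau`.
-/

set_option autoImplicit false

namespace Cfsg.Agent.H69.F43

open Cfsg.Agent.H700.F43 Cfsg.Agent.H675.F43

/-- nodes of type `t` -/
def tyN (t n : ℕ) : Bool := Nat.beq (typ n) t

theorem ct_1 : cnt (tyN 1) 2187 = 13 := by decide +kernel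

theorem ct_2 : cnt (tyN 2) 2187 = 13 := by decide +kernel

theorem ct_3 : cnt (tyN 3) 2187 = 702 := by decide +kernel

theorem ct_4 : cnt (tyN 4) 2187 = 756 := by decide +kernel

theorem ct_5 : cnt (tyN 5) 2187 = 702 := by decide +kernel

theorem ct_le {t : ℕ} (ht : t ≤ 5) (h : t ≠ 0) : 13 ≤ cnt (tyN t) 2187 := by
  interval_cases t
  · exact absurd rfl h
  · rw [ct_1]
  · rw [ct_2]
  · rw [ct_3]
    norm_num
  · rw [ct_4]
    norm_num
  · rw [ct_5]
    norm_num

theorem nc_inj {n m : ℕ} (hn : n < 2187) (hm : m < 2187) (h : vec (nc n) = vec (nc m)) : n = m := by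
  have h' : ∀ k < 14, dg (nc n) k % 3 = dg (nc m) k % 3 := fun k hk => cast_eq (congrFun h ⟨k, hk⟩)
  simp only [nc, dg_ofl, Nat.mod_mod] at h'
  have h7 := h' 7 (by norm_num)
  have h8 := h' 8 (by norm_num)
  have h9 := h' 9 (by norm_num)
  have h10 := h' 10 (by norm_num)
  have h11 := h' 11 (by norm_num)
  have h12 := h' 12 (by norm_num)
  have h13 := h' 13 (by norm_num)
  simp only [List.getD_cons_zero, List.getD_cons_succ] at h7 h8 h9 h10 h11 h12 h13
  omega

/-- symmetric matrices -/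
def Tm (X : Fin 6 → F3) : Matrix (Fin 3) (Fin 3) F3 := !![X 0, X 5, X 4; X 5, X 1, X 3; X 4, X 3, X 2]

theorem Tm_sym (X : Fin 6 → F3) : (Tm X).transpose = Tm X := by
  ext i j
  fin_cases i <;> fin_cases j <;> rfl

theorem node_co (n : ℕ) : vec (nc n) 0 = 1 ∧ vec (nc n) 1 = 0 ∧ vec (nc n) 2 = 0 ∧ vec (nc n) 3 = 0 ∧ vec (nc n) 4 = 0 ∧
    vec (nc n) 5 = 0 ∧ vec (nc n) 6 = 0 := by
  simp only [nc, vec_ofl]
  simp

theorem Xuu_node (X : Fin 6 → F3) (n : ℕ) : Xuu (Tm X) (vec (nc n)) 0 = 1 ∧ Xuu (Tm X) (vec (nc n)) 1 = X 0 ∧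
    Xuu (Tm X) (vec (nc n)) 2 = X 1 ∧ Xuu (Tm X) (vec (nc n)) 3 = X 2 ∧ Xuu (Tm X) (vec (nc n)) 4 = X 3 ∧
    Xuu (Tm X) (vec (nc n)) 5 = X 4 ∧ Xuu (Tm X) (vec (nc n)) 6 = X 5 := by
  obtain ⟨h0, h1, h2, h3, h4, h5, h6⟩ := node_co n
  generalize vec (nc n) = v at *
  have h2' : ∀ x : F3, -2 * x = x := by decide
  simp only [neg_mul] at h2'
  simp [Xuu, Tm, h0, h1, h2, h3, h4, h5, h6, h2']

theorem Xuu_inj {T : Matrix (Fin 3) (Fin 3) F3} (hT : T.transpose = T) {u v : V14} (h : Xuu T u = Xuu T v) : u = v := by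
  rw [← act_uu T hT] at h
  have h1 := congrArg (act (uu T hT)⁻¹) h
  have h2 : ∀ x : V14, act (uu T hT)⁻¹ (act (uu T hT) x) = x := fun x => LinearMap.congr_fun (act_inv_mul _) x
  rwa [h2, h2] at h1

/-- many vectors in one orbit -/
def ph (p : Bool × (Fin 6 → F3) × ℕ) : V14 :=
  if p.1 then Xuu (Tm p.2.1) (vec (nc p.2.2)) else -Xuu (Tm p.2.1) (vec (nc p.2.2))

theorem ph_aux {X Y : Fin 6 → F3} {n m : ℕ} (hn : n < 2187) (hm : m < 2187)
    (h : Xuu (Tm X) (vec (nc n)) = Xuu (Tm Y) (vec (nc m))) : X = Y ∧ n = m := by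
  obtain ⟨-, a1, a2, a3, a4, a5, a6⟩ := Xuu_node X n
  obtain ⟨-, b1, b2, b3, b4, b5, b6⟩ := Xuu_node Y m
  have hX : X = Y := by
    ext k
    rw [h] at a1 a2 a3 a4 a5 a6
    fin_cases k
    · exact a1.symm.trans b1
    · exact a2.symm.trans b2
    · exact a3.symm.trans b3
    · exact a4.symm.trans b4
    · exact a5.symm.trans b5
    · exact a6.symm.trans b6
  subst hX
  exact ⟨rfl, nc_inj hn hm (Xuu_inj (Tm_sym X) h)⟩

theorem ph_inj {p q : Bool × (Fin 6 → F3) × ℕ} (hp : p.2.2 < 2187) (hq : q.2.2 < 2187) (h : ph p = ph q) : p = q := by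
  obtain ⟨s, X, n⟩ := p
  obtain ⟨s', Y, m⟩ := q
  simp only at hp hq
  have a0 := (Xuu_node X n).1
  have b0 := (Xuu_node Y m).1
  have hne : (1 : F3) ≠ -1 := by decide
  cases s <;> cases s'
  · simp only [ph, Bool.false_eq_true, if_false] at h
    obtain ⟨h1, h2⟩ := ph_aux hp hq (neg_injective h)
    rw [h1, h2]
  · simp only [ph, Bool.false_eq_true, if_false, if_true] at h
    have h1 := congrFun h 0
    rw [Pi.neg_apply, a0, b0] at h1
    exact absurd h1.symm hne
  · simp only [ph, Bool.false_eq_true, if_false, if_true] at h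
    have h1 := congrFun h 0
    rw [Pi.neg_apply, a0, b0] at h1
    exact absurd h1 hne
  · simp only [ph, if_true] at h
    obtain ⟨h1, h2⟩ := ph_aux hp hq h
    rw [h1, h2]

theorem eqv_ph {t : ℕ} (p : Bool × (Fin 6 → F3) × ℕ) (hp : p.2.2 < 2187) (ht : typ p.2.2 = t) :
    Eqv (vec (nc (rp t))) (ph p) := by
  have h := (node_eqv _ hp).symm
  rw [ht] at h
  have h1 : Eqv (vec (nc (rp t))) (Xuu (Tm p.2.1) (vec (nc p.2.2))) :=
    h.trans ⟨uu (Tm p.2.1) (Tm_sym _), by rw [act_uu]⟩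
  unfold ph
  split_ifs
  · exact h1
  · exact h1.neg

set_option linter.constructorNameAsVariable false in
set_option maxRecDepth 8000 in
open Classical in
/-- **The other orbits are large.** -/
theorem h0 {μ : V14} (h : μ ≠ 0) (h' : μ ∉ O1) : 18954 ≤ (Finset.univ.filter (Eqv μ)).card := by
  obtain ⟨t, ht, h1⟩ := exists_rep' h
  have ht0 : t ≠ 0 := by
    rintro rfl
    have h2 : vec (nc (rp 0)) = e0 := by
      rw [← vec_one]
      rfl
    rw [h2] at h1
    exact h' (mem_O1'.2 h1.symm)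
  have hc : ((Finset.univ : Finset Bool) ×ˢ (Finset.univ : Finset (Fin 6 → F3)) ×ˢ
      ((Finset.range 2187).filter fun n => tyN t n = true)).card ≤ (Finset.univ.filter (Eqv μ)).card := by
    refine Finset.card_le_card_of_injOn ph ?_ ?_
    · intro p hp
      simp only [Finset.coe_product, Set.mem_prod, Finset.coe_filter, Finset.mem_range, Set.mem_ofPred_eq,
        Finset.mem_coe, Finset.mem_univ, true_and] at hp ⊢
      exact h1.trans (eqv_ph p hp.1 (Nat.eq_of_beq_eq_true hp.2))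
    · intro p hp q hq hpq
      simp only [Finset.coe_product, Set.mem_prod, Finset.coe_filter, Finset.mem_range, Set.mem_ofPred_eq,
        Finset.mem_coe, Finset.mem_univ, true_and] at hp hq
      exact ph_inj hp.1 hq.1 hpq
  rw [Finset.card_product, Finset.card_product, Finset.card_univ, Finset.card_univ, ← cnt_eq, Fintype.card_bool,
    Fintype.card_fun, Fintype.card_fin, ZMod.card] at hc
  have h3 := ct_le ht ht0
  omega

/-! ### the transvection -/

/-- test: in the commutator space -/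
def pT (i : ℕ) : Bool := Nat.beq (dg (lg i) 0 + dg (lg i) 2 + dg (lg i) 3 + dg (lg i) 4 + dg (lg i) 5 + dg (lg i) 6 +
  dg (lg i) 7 + dg (lg i) 11 + dg (lg i) 12) 0

theorem ct_T : cnt pT 1120 = 40 := by decide +kernel

/-- the commutator space of `uu (mt 1)` -/
def InT (v : V14) : Prop := v 0 = 0 ∧ v 2 = 0 ∧ v 3 = 0 ∧ v 4 = 0 ∧ v 5 = 0 ∧ v 6 = 0 ∧ v 7 = 0 ∧ v 11 = 0 ∧ v 12 = 0

instance instDecInT (v : V14) : Decidable (InT v) := by
  unfold InT
  infer_instance

theorem dg_lg {i : ℕ} (hi : i < 1120) (k : ℕ) : dg (lg i) k < 3 := by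
  rw [← chkn_ofl hi]
  exact dg_ofl_lt _ _

theorem pT_iff {i : ℕ} (hi : i < 1120) : pT i = true ↔ InT (vec (lg i)) := by
  have h : ∀ k : Fin 14, vec (lg i) k = 0 ↔ dg (lg i) k = 0 := by
    intro k
    have h1 := dg_lg hi k
    unfold vec
    rw [ZMod.natCast_eq_zero_iff]
    omega
  have e0 : vec (lg i) 0 = 0 ↔ dg (lg i) 0 = 0 := h 0
  have e2 : vec (lg i) 2 = 0 ↔ dg (lg i) 2 = 0 := h 2
  have e3 : vec (lg i) 3 = 0 ↔ dg (lg i) 3 = 0 := h 3
  have e4 : vec (lg i) 4 = 0 ↔ dg (lg i) 4 = 0 := h 4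
  have e5 : vec (lg i) 5 = 0 ↔ dg (lg i) 5 = 0 := h 5
  have e6 : vec (lg i) 6 = 0 ↔ dg (lg i) 6 = 0 := h 6
  have e7 : vec (lg i) 7 = 0 ↔ dg (lg i) 7 = 0 := h 7
  have e11 : vec (lg i) 11 = 0 ↔ dg (lg i) 11 = 0 := h 11
  have e12 : vec (lg i) 12 = 0 ↔ dg (lg i) 12 = 0 := h 12
  rw [InT, e0, e2, e3, e4, e5, e6, e7, e11, e12, pT, Nat.beq_eq]
  omega

theorem tau_card : (O1.filter InT).card = 80 := by
  have h : ∀ v : V14, InT (-v) ↔ InT v := by
    intro v
    simp only [InT, Pi.neg_apply, neg_eq_zero]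
  rw [card_filter_O1]
  simp only [h]
  have h1 : ((Finset.range 1120).filter fun i => InT (vec (lg i))).card = 40 := by
    rw [← ct_T, cnt_eq]
    refine congrArg Finset.card (Finset.filter_congr fun i hi => ?_)
    rw [pT_iff (Finset.mem_range.1 hi)]
  rw [h1]

theorem fix_tau (v : V14) : Xuu (mt 1) v = v ↔ v 0 = 0 ∧ v 2 = 0 ∧ v 3 = 0 ∧ v 4 = 0 ∧ v 7 = 0 := by
  constructor
  · intro h
    have h1 := congrFun h 1
    have h2 := congrFun h 8
    have h3 := congrFun h 9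
    have h4 := congrFun h 10
    have h5 := congrFun h 13
    simp [Xuu, mt, dg] at h1 h2 h3 h4 h5
    exact ⟨h1, h3, h2, h4, h5⟩
  · rintro ⟨a, b, c, d, e⟩
    ext k
    fin_cases k <;> simp [Xuu, mt, dg, a, b, c, d, e]

/-- the commutator space is orthogonal to the fixed space, and conversely -/
theorem inT_iff (w : V14) : InT w ↔ ∀ v : V14, Xuu (mt 1) v = v → bf w v = 0 := by
  constructor
  · rintro ⟨a0, a2, a3, a4, a5, a6, a7, a11, a12⟩ v hv
    obtain ⟨b0, b2, b3, b4, b7⟩ := (fix_tau v).1 hv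
    simp [bf, a0, a2, a3, a4, a5, a6, a7, a11, a12, b0, b2, b3, b4, b7]
  · intro h
    have h' : ∀ k : Fin 14, k ≠ 0 → k ≠ 2 → k ≠ 3 → k ≠ 4 → k ≠ 7 → bf w (Pi.single k 1) = 0 := by
      intro k h0 h2 h3 h4 h7
      refine h _ ((fix_tau _).2 ?_)
      simp [Pi.single_apply, h0.symm, h2.symm, h3.symm, h4.symm, h7.symm]
    have c1 := h' 13 (by decide) (by decide) (by decide) (by decide) (by decide)
    have c2 := h' 8 (by decide) (by decide) (by decide) (by decide) (by decide)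
    have c3 := h' 9 (by decide) (by decide) (by decide) (by decide) (by decide)
    have c4 := h' 10 (by decide) (by decide) (by decide) (by decide) (by decide)
    have c5 := h' 11 (by decide) (by decide) (by decide) (by decide) (by decide)
    have c6 := h' 12 (by decide) (by decide) (by decide) (by decide) (by decide)
    have c7 := h' 1 (by decide) (by decide) (by decide) (by decide) (by decide)
    have c8 := h' 5 (by decide) (by decide) (by decide) (by decide) (by decide)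
    have c9 := h' 6 (by decide) (by decide) (by decide) (by decide) (by decide)
    simp [bf] at c1 c2 c3 c4 c5 c6 c7 c8 c9
    exact ⟨c1, c2, c3, c4, c5, c6, c7, c8, c9⟩

end Cfsg.Agent.H69.F43
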