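import Cfsg.Agent.H69.F43.Orb
import Cfsg.Agent.H92.RB.Def

/-!
# The orbit of the long root vectors in sums (S2464, F₄(3), box T1; helper69)

* `BB_eq : BB u v = -bf u v`; `inv_act`, `inv_eqv`;
* `orb_root' : 2240 * D (Pi.single 0 1) ≤ AA D`, `orb_root : 560 * D (Pi.single 0 1) ≤ AA D`.
-/

set_option autoImplicit false

namespace Cfsg.Agent.H69.F43

open Cfsg.Agent.H700.F43 Cfsg.Agent.H675.F43 Cfsg.Agent.H92.RB

theorem BB_eq (u v : V14) : BB u v = -bf u v := by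
  simp only [BB, bf]
  ring

theorem inv_act {D : V14 → ℝ} (hi : Inv D) (A : Sp) (μ : V14) : D (act A μ) = D μ := hi A _ (rel_act A) μ

theorem inv_eqv {D : V14 → ℝ} (hi : Inv D) {μ ν : V14} (h : Eqv μ ν) : D ν = D μ := by
  obtain ⟨A, rfl⟩ := h
  exact inv_act hi A μ

theorem zero_notMem_O1 : (0 : V14) ∉ O1 := by
  rw [mem_O1']
  rintro ⟨A, h⟩
  have h1 := congrArg (act A⁻¹) h
  have h2 : act A⁻¹ (act A e0) = e0 := LinearMap.congr_fun (act_inv_mul A) e0
  rw [h2, map_zero] at h1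
  have h3 := congrFun h1 0
  simp [e0] at h3

theorem sum_O1 {D : V14 → ℝ} (hi : Inv D) : ∑ μ ∈ O1, D μ = 2240 * D (Pi.single 0 1) := by
  rw [Finset.sum_congr rfl fun μ hμ => inv_eqv hi (mem_O1'.1 hμ), Finset.sum_const, card_O1, nsmul_eq_mul]
  norm_num [e0]

/-- **(4)** the sum over the nonzero vectors and the value at the long root vector -/
theorem orb_root' {D : V14 → ℝ} (h0 : ∀ μ, 0 ≤ D μ) (hi : Inv D) : 2240 * D (Pi.single 0 1) ≤ AA D := by
  rw [← sum_O1 hi]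
  refine Finset.sum_le_sum_of_subset_of_nonneg ?_ fun μ _ _ => h0 μ
  intro μ hμ
  rw [Finset.mem_erase]
  refine ⟨?_, Finset.mem_univ _⟩
  rintro rfl
  exact zero_notMem_O1 hμ

theorem orb_root {D : V14 → ℝ} (h0 : ∀ μ, 0 ≤ D μ) (hi : Inv D) : 560 * D (Pi.single 0 1) ≤ AA D := by
  have h1 := orb_root' h0 hi
  have h2 := h0 (Pi.single 0 1)
  linarith

/-! ### the Fourier sum of the orbit -/

theorem c3_sum_O1 {μ : V14} (h : μ ≠ 0) : -190 ≤ ∑ w ∈ O1, c3 (BB μ w) ∧ ∑ w ∈ O1, c3 (BB μ w) ≤ 296 := by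
  have hc : ∑ w ∈ O1, c3 (BB μ w) = 2240 - 3 * ((O1.filter fun w => bf μ w = 1).card : ℝ) := by
    have h1 : ∀ w : V14, c3 (BB μ w) = 1 - 3 / 2 * (if bf μ w = 1 then 1 else 0) - 3 / 2 * (if bf μ (-w) = 1 then 1 else 0) := by
      intro w
      rw [BB_eq, bf_neg_right]
      have h2 : ∀ a : F3, a = 0 ∨ a = 1 ∨ a = -1 := by decide
      have h3 : (1 : F3) ≠ 0 := by decide
      have h4 : (-1 : F3) ≠ 1 := by decide
      have h5 : (0 : F3) ≠ 1 := by decide
      rcases h2 (bf μ w) with h | h | h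
      · rw [h, c3, neg_zero, if_pos rfl, if_neg h5]
        norm_num
      · rw [h, c3, if_neg (neg_ne_zero.2 h3), if_pos rfl, if_neg h4]
        norm_num
      · rw [h, c3, neg_neg, if_neg h3, if_neg h4, if_pos rfl]
        norm_num
    have h6 : ∑ w ∈ O1, (if bf μ (-w) = 1 then (1 : ℝ) else 0) = ∑ w ∈ O1, (if bf μ w = 1 then (1 : ℝ) else 0) := by
      refine Finset.sum_nbij' (fun w => -w) (fun w => -w) ?_ ?_ ?_ ?_ ?_
      · exact fun w hw => neg_mem_O1.2 hw
      · exact fun w hw => neg_mem_O1.2 hw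
      · exact fun w _ => neg_neg w
      · exact fun w _ => neg_neg w
      · exact fun w _ => rfl
    rw [Finset.sum_congr rfl fun w _ => h1 w, Finset.sum_sub_distrib, Finset.sum_sub_distrib, ← Finset.mul_sum,
      ← Finset.mul_sum, h6, Finset.sum_boole, Finset.sum_const, card_O1, nsmul_eq_mul]
    norm_num
    ring
  obtain ⟨h1, h2⟩ := T1 h
  have h1' : (648 : ℝ) ≤ ((O1.filter fun w => bf μ w = 1).card : ℝ) := by exact_mod_cast h1
  have h2' : ((O1.filter fun w => bf μ w = 1).card : ℝ) ≤ 810 := by exact_mod_cast h2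
  rw [hc]
  constructor <;> linarith

/-- **(2)** the value of the Fourier transform at a long root vector -/
theorem tab_root {D : V14 → ℝ} (h0 : ∀ μ, 0 ≤ D μ) (hi : Inv D) : D 0 - 19 / 224 * AA D ≤ FT D (Pi.single 0 1) ∧
    FT D (Pi.single 0 1) ≤ D 0 + 37 / 280 * AA D := by
  have hF : ∀ w ∈ O1, FT D w = FT D (Pi.single 0 1) := by
    intro w hw
    obtain ⟨A, rfl⟩ := mem_O1'.1 hw
    change FT D (act A (Pi.single 0 1)) = _
    unfold FT
    have h2 : ∀ x : V14, act A (act A⁻¹ x) = x := fun x => LinearMap.congr_fun (act_mul_inv A) x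
    have h3 : ∀ x : V14, act A⁻¹ (act A x) = x := fun x => LinearMap.congr_fun (act_inv_mul A) x
    refine Finset.sum_nbij' (fun μ => act A⁻¹ μ) (fun μ => act A μ) ?_ ?_ ?_ ?_ ?_
    · exact fun _ _ => Finset.mem_univ _
    · exact fun _ _ => Finset.mem_univ _
    · exact fun μ _ => h2 μ
    · exact fun μ _ => h3 μ
    · intro μ _
      have h4 : BB μ (act A (Pi.single 0 1)) = BB (act A⁻¹ μ) (Pi.single 0 1) := by
        rw [BB_eq, BB_eq, ← bf_act A (act A⁻¹ μ), h2]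
      rw [h4, inv_act hi A⁻¹ μ]
  have hS : 2240 * FT D (Pi.single 0 1) = ∑ μ : V14, D μ * ∑ w ∈ O1, c3 (BB μ w) := by
    calc 2240 * FT D (Pi.single 0 1) = ∑ w ∈ O1, FT D w := by
          rw [Finset.sum_congr rfl hF, Finset.sum_const, card_O1, nsmul_eq_mul]
          norm_num
      _ = ∑ μ : V14, D μ * ∑ w ∈ O1, c3 (BB μ w) := by
          unfold FT
          rw [Finset.sum_comm]
          refine Finset.sum_congr rfl fun μ _ => ?_
          rw [Finset.mul_sum]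
  have h00 : ∑ w ∈ O1, c3 (BB 0 w) = 2240 := by
    have h1 : ∀ w : V14, c3 (BB 0 w) = 1 := by
      intro w
      rw [BB_eq, bf_zero_left, neg_zero, c3, if_pos rfl]
    rw [Finset.sum_congr rfl fun w _ => h1 w, Finset.sum_const, card_O1, nsmul_eq_mul]
    norm_num
  rw [← Finset.add_sum_erase _ _ (Finset.mem_univ (0 : V14)), h00] at hS
  have hl : -190 * AA D ≤ ∑ μ ∈ Finset.univ.erase (0 : V14), D μ * ∑ w ∈ O1, c3 (BB μ w) := by
    rw [AA, Finset.mul_sum]
    refine Finset.sum_le_sum fun μ hμ => ?_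
    have h1 := (c3_sum_O1 (Finset.ne_of_mem_erase hμ)).1
    nlinarith [h0 μ]
  have hu : ∑ μ ∈ Finset.univ.erase (0 : V14), D μ * ∑ w ∈ O1, c3 (BB μ w) ≤ 296 * AA D := by
    rw [AA, Finset.mul_sum]
    refine Finset.sum_le_sum fun μ hμ => ?_
    have h1 := (c3_sum_O1 (Finset.ne_of_mem_erase hμ)).2
    nlinarith [h0 μ]
  constructor <;> linarith

end Cfsg.Agent.H69.F43
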